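import Mathlib
import Groth.Agent.H68.ZMT.FiniteFP

/-!
# Henselian couples: condition a) and its first consequences

`ClopenLift i` : for every finite `g : S' ⟶ S` the clopen subsets of `S' ×_S S₀` lift uniquely to
clopen subsets of `S'`.
-/

set_option autoImplicit false
universe u
open CategoryTheory CategoryTheory.Limits AlgebraicGeometry TopologicalSpace Opposite

namespace Groth.Agent.H68.HensCouple

/-- condition a) of the henselian couple criterion -/
def ClopenLift {S S₀ : Scheme.{u}} (i : S₀ ⟶ S) : Prop :=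
  ∀ (S' : Scheme.{u}) (g : S' ⟶ S), IsFinite g →
    ∀ V : Set ↥(pullback g i), IsClopen V →
      ∃! U : Set ↥S', IsClopen U ∧ (pullback.fst g i).base ⁻¹' U = V

/-- Under a), a closed subset of `S` disjoint from `S₀` is empty. -/
theorem eq_empty_of_disjoint {S S₀ : Scheme.{u}} (i : S₀ ⟶ S) (ha : ClopenLift i)
    (Z : Set S) (hZ : IsClosed Z) (hd : Disjoint Z (Set.range i.base)) : Z = ∅ := by
  let Zc : TopologicalSpace.Closeds S := ⟨Z, hZ⟩
  let I := Scheme.IdealSheafData.vanishingIdeal Zc
  let z : I.subscheme ⟶ S := I.subschemeι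
  have hz : Set.range z = Z := by
    rw [I.range_subschemeι]; simp [I, Zc]
  haveI : IsEmpty ↥(pullback z i) := by
    refine ⟨fun p => ?_⟩
    have h1 : z (pullback.fst z i p) ∈ Z := by rw [← hz]; exact ⟨_, rfl⟩
    have h2 : z (pullback.fst z i p) = i (pullback.snd z i p) := by
      rw [← Scheme.Hom.comp_apply, pullback.condition, Scheme.Hom.comp_apply]
    exact Set.disjoint_left.1 hd h1 ⟨_, h2.symm⟩
  obtain ⟨U, -, huniq⟩ := ha _ z inferInstance ∅ isClopen_empty
  have h1 := huniq ∅ ⟨isClopen_empty, Set.eq_empty_of_isEmpty _⟩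
  have h2 := huniq Set.univ ⟨isClopen_univ, Set.eq_empty_of_isEmpty _⟩
  have h3 : (Set.univ : Set ↥I.subscheme) = ∅ := h2.trans h1.symm
  rw [← hz]
  rw [Set.range_eq_empty_iff]
  exact Set.univ_eq_empty_iff.1 h3

/-- Under a), a clopen subset of `S` containing the image of `S₀` is everything. -/
theorem eq_univ_of_range_subset {S S₀ : Scheme.{u}} (i : S₀ ⟶ S) (ha : ClopenLift i)
    (E : Set S) (hE : IsClosed Eᶜ) (hi : Set.range i.base ⊆ E) : E = Set.univ := by
  have := eq_empty_of_disjoint i ha Eᶜ hE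
    (Set.disjoint_left.2 fun x hx hx' => hx (hi hx'))
  exact Set.compl_empty_iff.1 this

end Groth.Agent.H68.HensCouple
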