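import Groth.Agent.H68.HensCouple.Unique

/-!
# Henselian couples: existence of sections of étale separated morphisms
-/

set_option autoImplicit false
universe u
open CategoryTheory CategoryTheory.Limits AlgebraicGeometry TopologicalSpace Opposite

namespace Groth.Agent.H68.HensCouple

theorem locallyQuasiFinite_of_etale {X Y : Scheme.{u}} (f : X ⟶ Y) [Etale f] :
    LocallyQuasiFinite f := by
  refine ⟨fun {U} hU {V} hV e => ?_⟩
  have hφ : (f.appLE U V e).hom.Etale :=
    HasRingHomProperty.appLE (P := @Etale) f inferInstance ⟨U, hU⟩ ⟨V, hV⟩ e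
  algebraize [(f.appLE U V e).hom]
  have : Algebra.Etale Γ(Y, U) Γ(X, V) := hφ
  exact RingHom.quasiFinite_algebraMap.mpr inferInstance

/-- a compact subset of a scheme lies in a quasi-compact open -/
theorem exists_compact_opens_superset {X : Scheme.{u}} (K : Set X) (hK : IsCompact K) :
    ∃ W : X.Opens, IsCompact (W : Set X) ∧ K ⊆ (W : Set X) := by
  choose U hU hxU _ using fun x : X =>
    exists_isAffineOpen_mem_and_subset (X := X) (x := x) (U := ⊤) trivial
  obtain ⟨t, ht⟩ := hK.elim_finite_subcover (fun x : X => ((U x : X.Opens) : Set X))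
    (fun x => (U x).2) (fun x _ => Set.mem_iUnion.2 ⟨x, hxU x⟩)
  refine ⟨⨆ x ∈ t, U x, ?_, ?_⟩
  · have : ((⨆ x ∈ t, U x : X.Opens) : Set X) = ⋃ x ∈ t, ((U x : X.Opens) : Set X) := by
      simp
    rw [this]
    exact t.isCompact_biUnion fun x _ => (hU x).isCompact
  · intro x hx
    have := ht hx
    simpa using this

/-- a section of an étale morphism is an open immersion -/
theorem isOpenImmersion_of_section {X Y : Scheme.{u}} (h : Y ⟶ X) [Etale h] (s : X ⟶ Y)
    (hs : s ≫ h = 𝟙 X) : IsOpenImmersion s := by
  have : Etale (s ≫ h) := by rw [hs]; infer_instance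
  have : Etale s := Etale.of_comp (f := s) h
  have : Mono s := mono_of_mono_fac hs
  exact IsOpenImmersion.of_flat_of_mono s

end Groth.Agent.H68.HensCouple
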