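import Groth.Agent.H68.HensCouple.Exists

/-!
# Henselian couples: a) ⇒ b)
-/

set_option autoImplicit false
universe u
open CategoryTheory CategoryTheory.Limits AlgebraicGeometry TopologicalSpace Opposite

namespace Groth.Agent.H68.HensCouple

/-- Key step: a finite étale `p : U ⟶ S` such that `U ×_S S₀ ⟶ S₀` is a monomorphism and whose
image contains `S₀` is an isomorphism (under a)). -/
theorem isIso_of_finite_etale {S S₀ U : Scheme.{u}} (i : S₀ ⟶ S) (ha : ClopenLift i)
    (p : U ⟶ S) [IsFinite p] [Etale p] (hmono : Mono (pullback.snd p i))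
    (hrange : Set.range i.base ⊆ Set.range p.base) : IsIso p := by
  -- surjective
  have hsurj : Surjective p := by
    have hopen : IsOpen (Set.range p.base) := p.isOpenMap.isOpen_range
    have hclosed : IsClosed (Set.range p.base) := p.isClosedMap.isClosed_range
    have := eq_univ_of_range_subset i ha _ (by rw [isClosed_compl_iff]; exact hopen) hrange
    exact ⟨Set.range_eq_univ.1 this⟩
  -- mono
  have hmono' : Mono p := by
    rw [← pullback.isIso_diagonal_iff]
    let Δ := pullback.diagonal p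
    have hΔo : IsOpenImmersion Δ := inferInstance
    have hΔc : IsClosedImmersion Δ := inferInstance
    let q : pullback p p ⟶ S := pullback.fst p p ≫ p
    have hq : IsFinite q := inferInstance
    obtain ⟨U', -, huniq⟩ := ha _ q hq Set.univ isClopen_univ
    have hD : IsClopen (Set.range Δ.base) :=
      ⟨Δ.isClosedEmbedding.isClosed_range, Δ.isOpenEmbedding.isOpen_range⟩
    have hpre : (pullback.fst q i).base ⁻¹' (Set.range Δ.base) = Set.univ := by
      rw [Set.eq_univ_iff_forall]
      intro y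
      let ŷ := (pullback q i).fromSpecResidueField y
      let a := ŷ ≫ pullback.fst q i ≫ pullback.fst p p
      let b := ŷ ≫ pullback.fst q i ≫ pullback.snd p p
      let t₀ := ŷ ≫ pullback.snd q i
      have hap : a ≫ p = t₀ ≫ i := by
        simp only [a, t₀, Category.assoc]
        rw [← pullback.condition (f := q) (g := i)]
      have hbp : b ≫ p = t₀ ≫ i := by
        rw [← hap]
        simp only [a, b, Category.assoc]
        rw [pullback.condition (f := p) (g := p)]
      have hab : a = b := by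
        have h1 : pullback.lift a t₀ hap = pullback.lift b t₀ hbp := by
          rw [← cancel_mono (pullback.snd p i), pullback.lift_snd, pullback.lift_snd]
        have h2 := congrArg (fun m => m ≫ pullback.fst p i) h1
        simp only [pullback.lift_fst] at h2
        exact h2
      have hfac : ŷ ≫ pullback.fst q i = a ≫ Δ := by
        apply pullback.hom_ext
        · simp [a, Δ]
        · have : (a ≫ Δ) ≫ pullback.snd p p = b := by
            rw [Category.assoc]
            change a ≫ pullback.diagonal p ≫ pullback.snd p p = b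
            rw [pullback.diagonal_snd, Category.comp_id, hab]
          rw [this]
          simp [b]
      have hy : ŷ (IsLocalRing.closedPoint _) = y := Scheme.fromSpecResidueField_apply _ _
      refine ⟨a (IsLocalRing.closedPoint _), ?_⟩
      rw [← Scheme.Hom.comp_apply, ← hfac, Scheme.Hom.comp_apply, hy]
    have h1 := huniq _ ⟨hD, hpre⟩
    have h2 := huniq Set.univ ⟨isClopen_univ, Set.preimage_univ⟩
    have hΔs : Function.Surjective Δ.base := Set.range_eq_univ.1 (h1.trans h2.symm)
    exact (isIso_iff_isOpenImmersion_and_surjective Δ).2 ⟨hΔo, ⟨hΔs⟩⟩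
  exact Flat.isIso_of_surjective_of_mono p

set_option maxHeartbeats 800000 in
theorem section_exists {S S₀ S' : Scheme.{u}} (i : S₀ ⟶ S) [IsClosedImmersion i]
    [CompactSpace S] [QuasiSeparatedSpace S] (ha : ClopenLift i) (g : S' ⟶ S) [Etale g]
    [IsSeparated g] (u₀ : S₀ ⟶ pullback g i) (hu₀ : u₀ ≫ pullback.snd g i = 𝟙 S₀) :
    ∃ u : S ⟶ S', u ≫ g = 𝟙 S ∧ i ≫ u = u₀ ≫ pullback.fst g i := by
  -- Step A
  let v₀ : S₀ ⟶ S' := u₀ ≫ pullback.fst g i
  have hv₀ : v₀ ≫ g = i := by
    simp only [v₀, Category.assoc]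
    rw [pullback.condition, ← Category.assoc, hu₀, Category.id_comp]
  haveI : CompactSpace S₀ := QuasiCompact.compactSpace_of_compactSpace i
  obtain ⟨W, hWc, hKW⟩ := exists_compact_opens_superset (Set.range v₀.base)
    (isCompact_range v₀.continuous)
  haveI : CompactSpace (W : Scheme.{u}) := isCompact_iff_compactSpace.mp hWc
  -- Step B
  let w₀ : S₀ ⟶ (W : Scheme.{u}) := IsOpenImmersion.lift W.ι v₀ (by
    rw [Scheme.Opens.range_ι]; exact hKW)
  have hw₀ : w₀ ≫ W.ι = v₀ := IsOpenImmersion.lift_fac _ _ _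
  let gW : (W : Scheme.{u}) ⟶ S := W.ι ≫ g
  haveI : Etale gW := inferInstance
  haveI : IsSeparated gW := inferInstance
  haveI : QuasiCompact gW := inferInstance
  haveI : LocallyQuasiFinite gW := locallyQuasiFinite_of_etale gW
  have hw₀g : w₀ ≫ gW = i := by
    simp only [gW]; rw [← Category.assoc, hw₀, hv₀]
  obtain ⟨T, j, π, hj, -, hπ, -, hfac⟩ := Groth.Agent.H68.ZMT.exists_openImmersion_finite_fp gW
  -- Step C
  let s₀ : S₀ ⟶ pullback gW i := pullback.lift w₀ (𝟙 S₀) (by rw [hw₀g, Category.id_comp])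
  have hs₀ : s₀ ≫ pullback.snd gW i = 𝟙 S₀ := pullback.lift_snd _ _ _
  haveI : IsOpenImmersion s₀ := isOpenImmersion_of_section (pullback.snd gW i) s₀ hs₀
  let j₀ : pullback gW i ⟶ pullback π i :=
    pullback.map gW i π i j (𝟙 S₀) (𝟙 S) (by rw [Category.comp_id, hfac]) (by simp)
  haveI : IsOpenImmersion j₀ := inferInstance
  let σ₀ : S₀ ⟶ pullback π i := s₀ ≫ j₀
  have hσ₀s : σ₀ ≫ pullback.snd π i = 𝟙 S₀ := by
    simp only [σ₀, j₀, Category.assoc, pullback.lift_snd, Category.comp_id]
    exact hs₀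
  have hσ₀f : σ₀ ≫ pullback.fst π i = w₀ ≫ j := by
    simp only [σ₀, j₀, s₀, Category.assoc, pullback.lift_fst]
    rw [← Category.assoc, pullback.lift_fst]
  haveI : IsOpenImmersion σ₀ := inferInstance
  haveI : IsClosedImmersion σ₀ := by
    haveI : IsClosedImmersion (σ₀ ≫ pullback.snd π i) := by rw [hσ₀s]; infer_instance
    exact IsClosedImmersion.of_comp σ₀ (pullback.snd π i)
  -- Step D
  have hV : IsClopen (Set.range σ₀.base) :=
    ⟨σ₀.isClosedEmbedding.isClosed_range, σ₀.isOpenEmbedding.isOpen_range⟩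
  obtain ⟨Uset, ⟨hUclopen, hUpre⟩, -⟩ := ha T π hπ _ hV
  let U : T.Opens := ⟨Uset, hUclopen.2⟩
  -- Step E
  have hUj : Uset ⊆ Set.range j.base := by
    have hZc : IsClosed (Uset \ Set.range j.base) :=
      hUclopen.1.sdiff j.isOpenEmbedding.isOpen_range
    have hπZ : IsClosed (π.base '' (Uset \ Set.range j.base)) := π.isClosedMap _ hZc
    have hdisj : Disjoint (π.base '' (Uset \ Set.range j.base)) (Set.range i.base) := by
      rw [Set.disjoint_left]
      rintro _ ⟨z, ⟨hzU, hzj⟩, rfl⟩ ⟨s₁, hs₁⟩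
      obtain ⟨y, hy1, hy2⟩ := Scheme.Pullback.exists_preimage_pullback (f := π) (g := i) z s₁
        hs₁.symm
      have hyV : y ∈ Set.range σ₀.base := by
        rw [← hUpre]
        change (pullback.fst π i).base y ∈ Uset
        rw [hy1]; exact hzU
      obtain ⟨s₂, rfl⟩ := hyV
      apply hzj
      refine ⟨w₀ s₂, ?_⟩
      rw [← Scheme.Hom.comp_apply, ← hσ₀f, Scheme.Hom.comp_apply]
      exact hy1
    have hempty := eq_empty_of_disjoint i ha _ hπZ hdisj
    rw [Set.image_eq_empty] at hempty
    exact Set.diff_eq_empty.1 hempty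
  -- Step F
  let l : (U : Scheme.{u}) ⟶ (W : Scheme.{u}) := IsOpenImmersion.lift j U.ι (by
    rw [Scheme.Opens.range_ι]; exact hUj)
  have hl : l ≫ j = U.ι := IsOpenImmersion.lift_fac _ _ _
  haveI : IsOpenImmersion l := by
    haveI : IsOpenImmersion (l ≫ j) := by rw [hl]; infer_instance
    exact IsOpenImmersion.of_comp l j
  let p : (U : Scheme.{u}) ⟶ S := U.ι ≫ π
  have hp : p = l ≫ gW := by
    simp only [p]; rw [← hl, Category.assoc, hfac]
  haveI : Etale p := by rw [hp]; infer_instance
  haveI : IsClosedImmersion U.ι := IsClosedImmersion.of_isPreimmersion _ (by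
    rw [Scheme.Opens.range_ι]; exact hUclopen.1)
  haveI : IsFinite p := inferInstance
  -- r₀ : S₀ ⟶ U
  let r₀ : S₀ ⟶ (U : Scheme.{u}) := IsOpenImmersion.lift U.ι (σ₀ ≫ pullback.fst π i) (by
    rw [Scheme.Opens.range_ι]
    rintro _ ⟨s₁, rfl⟩
    have : σ₀ s₁ ∈ (pullback.fst π i).base ⁻¹' Uset := by rw [hUpre]; exact ⟨s₁, rfl⟩
    rw [Scheme.Hom.comp_apply]
    exact this)
  have hr₀ : r₀ ≫ U.ι = σ₀ ≫ pullback.fst π i := IsOpenImmersion.lift_fac _ _ _
  have hr₀p : r₀ ≫ p = i := by
    simp only [p]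
    rw [← Category.assoc, hr₀, Category.assoc, pullback.condition, ← Category.assoc, hσ₀s,
      Category.id_comp]
  -- Step G : range
  have hrange : Set.range i.base ⊆ Set.range p.base := by
    rintro _ ⟨s₁, rfl⟩
    exact ⟨r₀ s₁, by rw [← Scheme.Hom.comp_apply, hr₀p]⟩
  -- Step H : mono
  have hmono : Mono (pullback.snd p i) := by
    constructor
    intro Z α β hαβ
    have key : ∀ γ : Z ⟶ pullback p i,
        γ ≫ pullback.fst p i ≫ U.ι = (γ ≫ pullback.snd p i) ≫ σ₀ ≫ pullback.fst π i := by
      intro γ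
      set γ' := pullback.lift (γ ≫ pullback.fst p i ≫ U.ι) (γ ≫ pullback.snd p i)
          (by simp only [Category.assoc]; rw [← pullback.condition (f := p) (g := i)]) with hγ'
      have hγr : Set.range γ'.base ⊆ Set.range σ₀.base := by
        rintro _ ⟨z, rfl⟩
        rw [← hUpre]
        change (pullback.fst π i).base (γ' z) ∈ Uset
        rw [← Scheme.Hom.comp_apply, hγ', pullback.lift_fst, Scheme.Hom.comp_apply,
          Scheme.Hom.comp_apply]
        exact ((pullback.fst p i) (γ z)).2
      have h1 : IsOpenImmersion.lift σ₀ γ' hγr ≫ σ₀ = γ' := IsOpenImmersion.lift_fac _ _ _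
      have h2 : IsOpenImmersion.lift σ₀ γ' hγr = γ ≫ pullback.snd p i := by
        have := congrArg (fun m => m ≫ pullback.snd π i) h1
        simp only [Category.assoc, hσ₀s, Category.comp_id] at this
        rw [this, hγ', pullback.lift_snd]
      have h3 : γ' ≫ pullback.fst π i = γ ≫ pullback.fst p i ≫ U.ι := by
        rw [hγ', pullback.lift_fst]
      rw [← h3, ← h1, h2, Category.assoc]
    have h3 := key α
    have h4 := key β
    rw [hαβ] at h3
    have h6 := h3.trans h4.symm
    apply pullback.hom_ext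
    · rw [← cancel_mono U.ι]
      simpa using h6
    · exact hαβ
  haveI : IsIso p := isIso_of_finite_etale i ha p hmono hrange
  -- Step I
  refine ⟨inv p ≫ l ≫ W.ι, ?_, ?_⟩
  · rw [Category.assoc, Category.assoc]
    change inv p ≫ l ≫ gW = 𝟙 S
    rw [← hp, IsIso.inv_hom_id]
  · have h1 : i ≫ inv p = r₀ := by rw [← hr₀p, Category.assoc, IsIso.hom_inv_id, Category.comp_id]
    have h2 : r₀ ≫ l = w₀ := by
      rw [← cancel_mono j, Category.assoc, hl, hr₀, hσ₀f]
    rw [← Category.assoc, h1, ← Category.assoc, h2, hw₀]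

end Groth.Agent.H68.HensCouple
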