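import Groth.Agent.H68.HensCouple.Basic

/-!
# Henselian couples: uniqueness of sections of étale separated morphisms
-/

set_option autoImplicit false
universe u
open CategoryTheory CategoryTheory.Limits AlgebraicGeometry TopologicalSpace Opposite

namespace Groth.Agent.H68.HensCouple

set_option backward.isDefEq.respectTransparency false in
/-- the equalizer of two morphisms into an unramified `S`-scheme is an open subscheme -/
theorem isOpenImmersion_equalizer_ι_left {S : Scheme.{u}} {X Y : Over S}
    [FormallyUnramified Y.hom] [LocallyOfFiniteType Y.hom]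
    (f g : X ⟶ Y) : IsOpenImmersion (equalizer.ι f g).left := by
  refine MorphismProperty.of_isPullback
    ((Limits.isPullback_equalizer_prod f g).map (Over.forget _)).flip ?_
  rw [← MorphismProperty.cancel_right_of_respectsIso @IsOpenImmersion _
    (Over.prodLeftIsoPullback Y Y).hom]
  convert! (inferInstance : IsOpenImmersion (pullback.diagonal Y.hom))
  ext1 <;> simp [← Over.comp_left]

theorem section_unique {S S₀ S' : Scheme.{u}} (i : S₀ ⟶ S) (ha : ClopenLift i) (g : S' ⟶ S)
    [Etale g] [IsSeparated g] (u u' : S ⟶ S') (hu : u ≫ g = 𝟙 S) (hu' : u' ≫ g = 𝟙 S)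
    (h : i ≫ u = i ≫ u') : u = u' := by
  let X' : Over S := Over.mk (𝟙 S)
  let Y' : Over S := Over.mk g
  let f' : X' ⟶ Y' := Over.homMk u hu
  let g' : X' ⟶ Y' := Over.homMk u' hu'
  have : IsSeparated Y'.hom := ‹_›
  have : FormallyUnramified Y'.hom := inferInstanceAs (FormallyUnramified g)
  have : LocallyOfFiniteType Y'.hom := inferInstanceAs (LocallyOfFiniteType g)
  let e : (equalizer f' g').left ⟶ S := (equalizer.ι f' g').left
  have he1 : IsClosedImmersion e := inferInstance
  have he2 : IsOpenImmersion e := isOpenImmersion_equalizer_ι_left f' g'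
  let I' : Over S := Over.mk i
  let ι' : I' ⟶ X' := Over.homMk i (by simp [I', X'])
  have hι' : ι' ≫ f' = ι' ≫ g' := by
    ext1
    exact h
  have hfac : (equalizer.lift ι' hι').left ≫ e = i := by
    rw [← Over.comp_left, equalizer.lift_ι]
    rfl
  have hrange : Set.range i.base ⊆ Set.range e.base := by
    rintro _ ⟨x, rfl⟩
    refine ⟨(equalizer.lift ι' hι').left x, ?_⟩
    rw [← Scheme.Hom.comp_apply, hfac]
  have huniv : Set.range e.base = Set.univ :=
    eq_univ_of_range_subset i ha _ (by
      rw [isClosed_compl_iff]; exact e.isOpenEmbedding.isOpen_range) hrange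
  have hsurj : Function.Surjective e.base := Set.range_eq_univ.1 huniv
  have : IsIso e := (isIso_iff_isOpenImmersion_and_surjective e).2 ⟨he2, ⟨hsurj⟩⟩
  rw [← cancel_epi e]
  exact congr($(equalizer.condition f' g').left)

end Groth.Agent.H68.HensCouple
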